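import Groth.Agent.CurveOmega.RatPt
import Groth.Agent.DualGeneric.GenusZero
import Groth.Agent.DualGeneric.PointDeg
import Groth.Agent.CurveComplReg.Main
import Groth.Agent.SymAlg.InvDual

/-!
# Regular points of least degree on a curve of genus zero
-/

set_option autoImplicit false
set_option backward.isDefEq.respectTransparency false
set_option backward.isDefEq.respectTransparency.types false
set_option linter.style.haveILetI false
set_option linter.unusedSectionVars false

universe u

open CategoryTheory CategoryTheory.Limits AlgebraicGeometry TopologicalSpace Opposite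
open Groth.Agent.QC (res resO res_res res_self res_smul)
open TMul (homOf IsGen tm)
open Groth.Agent.CurveRR Groth.Agent.CohFinite

noncomputable section

namespace Groth.Agent.GenusZeroPts

variable {k : Type u} [Field k] {X : Scheme.{u}} [X.Over (Spec (CommRingCat.of k))]

/-- The degree of a closed point, as the length of its structure sheaf. -/
def pdeg (k : Type u) [Field k] {X : Scheme.{u}} [X.Over (Spec (CommRingCat.of k))] {P : X}
    (hP : IsClosed ({P} : Set X)) : ℕ :=
  h k (ClSub.quotMod (Scheme.IdealSheafData.vanishingIdeal ⟨{P}, hP⟩)) 0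

theorem pdeg_pos [IsProper (X ↘ Spec (CommRingCat.of k))] {P : X} (hP : IsClosed ({P} : Set X)) :
    0 < pdeg k hP :=
  h0_quotMod_pos (k := k) _ (by simp)

section vanishing

variable {L : X.Modules} (hL : PicF.IsInvertible L) (x : X)
include hL

/-- Near `x`, sections are multiples of a generator, and vanishing at `x` is vanishing of the coefficient. -/
theorem exists_coeff : ∃ (U : X.Opens) (hx : x ∈ U) (g : Γ(L, U)) (hg : IsGen g),
    ∀ t : Γ(L, ⊤), ∃ c : Γ(X, U), c • g = res L le_top t ∧
      (x ∈ CohB1.genLocus L (homOf t) ↔ IsUnit (X.presheaf.germ U x hx c)) := by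
  obtain ⟨U, g, hx, hg⟩ := TMul.exists_isGen hL x
  refine ⟨U, hx, g, hg, fun t => ?_⟩
  obtain ⟨c, hc⟩ := (hg U le_rfl).2 (res L le_top t)
  have hc' : c • g = res L le_top t := by rwa [res_self] at hc
  exact ⟨c, hc', TMul.mem_genLocus_iff_isUnit _ hg (c := c) (by rw [TMul.val_homOf]; exact hc'.symm) hx⟩

attribute [local instance] CurveRR.secMod in
/-- The sections vanishing at `x`. -/
theorem exists_vanishing : ∃ V : Submodule k Γ(L, ⊤), ∀ t, t ∈ V ↔ x ∉ CohB1.genLocus L (homOf t) := by
  obtain ⟨U, hx, g, hg, hc⟩ := exists_coeff hL x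
  choose c hc1 hc2 using hc
  have huniq : ∀ t (d : Γ(X, U)), d • g = res L le_top t → d = c t := fun t d hd =>
    (hg U le_rfl).1 (by
      show d • res L le_rfl g = c t • res L le_rfl g
      rw [res_self, hd, hc1])
  refine ⟨{ carrier := {t | x ∉ CohB1.genLocus L (homOf t)}
            add_mem' := fun {a b} ha hb => ?_
            zero_mem' := ?_
            smul_mem' := fun r a ha => ?_ }, fun t => Iff.rfl⟩
  · rw [Set.mem_setOf_eq, hc2] at ha hb ⊢
    rw [show c (a + b) = c a + c b from (huniq _ _ (by rw [add_smul, hc1, hc1, map_add])).symm, map_add]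
    exact IsLocalRing.nonunits_add ha hb
  · rw [Set.mem_setOf_eq, hc2, show c 0 = 0 from (huniq _ _ (by rw [zero_smul, map_zero])).symm, map_zero]
    exact not_isUnit_zero
  · rw [Set.mem_setOf_eq, hc2] at ha ⊢
    have e : c (r • a) = resO X (le_top : U ≤ ⊤) (cst k X ⊤ r) * c a := (huniq _ _ (by
      rw [mul_smul, hc1, CurveRR.smul_def, res_smul])).symm
    rw [e, map_mul]
    exact fun h => ha (isUnit_of_mul_isUnit_right h)

end vanishing

variable [IsIntegral X] [IsProper (X ↘ Spec (CommRingCat.of k))]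

attribute [local instance] CurveRR.secMod

/-- Given a regular point `P` and finitely many closed points, some section of `O(P)` avoids them, and
its zeros have degree at most that of `P`. -/
theorem exists_point_avoiding [Infinite k] (hdim : topologicalKrullDim X = 1)
    (h1 : Subsingleton (Coh.HH X (Coh.structureModule X) 1)) {P : X} (hP : IsClosed ({P} : Set X))
    (hreg : IsRegularLocalRing (X.presheaf.stalk P)) (T : Finset X) (hPT : P ∈ T)
    (hT : ∀ x, IsClosed ({x} : Set X) → ¬ IsRegularLocalRing (X.presheaf.stalk x) → x ∈ T) :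
    ∃ (Q : X) (hQ : IsClosed ({Q} : Set X)), Q ∉ T ∧ IsRegularLocalRing (X.presheaf.stalk Q) ∧
      pdeg k hQ ≤ pdeg k hP := by
  classical
  haveI := CurveRR.isNoetherian_of_proper k X
  have hI := CurveRR.isInvertible_pointIdeal hdim.le hP (CurveRR.genericPoint_ne_of_closed (k := k) hdim hP) hreg
  set I := Scheme.IdealSheafData.vanishingIdeal (⟨{P}, hP⟩ : Closeds X) with hIdef
  obtain ⟨L, hL, ⟨θ⟩⟩ := SymAlg.exists_inverse hI
  -- the canonical section
  let u₀ : Γ(CohB1.tensorMod (ClSub.idealMod I) L, ⊤) := TMul.val θ.inv ⊤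
  have hu₀ : homOf u₀ = θ.inv := TMul.hom_ext_val ((TMul.val_homOf u₀ ⊤).trans (res_self _ _ _))
  haveI : IsIso (homOf u₀) := by rw [hu₀]; infer_instance
  let t₀ : Γ(L, ⊤) := (idealIncl I L).app ⊤ u₀
  have ht₀ : ∀ x, x ≠ P → x ∈ CohB1.genLocus L (homOf t₀) := fun x hx =>
    CurveOmega.mem_genLocus_idealIncl hL ⟨{P}, hP⟩ (u := u₀) hx
  -- numerics
  have hd0 : topologicalKrullDim (I.support : Set X) ≤ 0 := point_dim hP
  have hχ : Curv2.euler k X L = Curv2.euler k X (Coh.structureModule X) + pdeg k hP := by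
    have he := euler_ideal_tensor (k := k) hL I hd0
    rw [euler_eq_of_iso θ] at he
    rw [pdeg]
    linarith
  have hL1 : Subsingleton (Coh.HH X L 1) := by
    have hS := shortExact_tmap hL (ideal_shortExact I)
    haveI h11 : Subsingleton (Coh.HH X (CohB1.tensorMod (ClSub.idealMod I) L) 1) :=
      (hhEquiv k θ 1).toEquiv.subsingleton
    have hsupp : CohB1.support (CohB1.tensorMod (ClSub.quotMod I) L) ⊆ {P} :=
      Intersect.support_tensor_subset hP ((CurveRR.support_quotMod I).trans (by simp [hIdef])) L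
    haveI h31 : Subsingleton (Coh.HH X (CohB1.tensorMod (ClSub.quotMod I) L) 1) :=
      SuppZero.subsingleton_hh_of_supported hP (topologicalKrullDim_zero_of_discreteTopology _) _
        (fun y hy h => hy (hsupp h)) 1 le_rfl
    haveI h21 : Subsingleton (Coh.HH X (CohB1.tensorMod (Coh.structureModule X) L) 1) := by
      refine ⟨fun a b => ?_⟩
      obtain ⟨a', rfl⟩ := (map_g_eq_zero_iff (shortExact_toAb hS) 1 a).1 (h31.elim _ _)
      obtain ⟨b', rfl⟩ := (map_g_eq_zero_iff (shortExact_toAb hS) 1 b).1 (h31.elim _ _)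
      rw [h11.elim a' b']
    exact (hhEquiv k (TMul.leftUnitIso L) 1).symm.toEquiv.subsingleton
  have h0L : h k L 0 = h k (Coh.structureModule X) 0 + pdeg k hP := by
    rw [euler_eq hdim.le, euler_eq hdim.le, show h k L 1 = 0 from h_eq_zero hL1,
      show h k (Coh.structureModule X) 1 = 0 from h_eq_zero h1] at hχ
    push_cast at hχ
    omega
  -- vanishing subspaces are proper
  choose V hV using fun x : T => exists_vanishing (k := k) hL x.1
  have hVne : ∀ x : T, V x ≠ ⊤ := fun x htop => by
    by_cases hx : x.1 = P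
    · have hall : ∀ t : Γ(L, ⊤), P ∉ CohB1.genLocus L (homOf t) := fun t => by
        have := (hV x t).1 (htop ▸ Submodule.mem_top)
        rwa [hx] at this
      have hM := isCoh_tensor (isCoh_idealMod I).1 hL
      haveI := finite_proper k X _ hM 0
      haveI : Module.Finite k Γ(CohB1.tensorMod (ClSub.idealMod I) L, ⊤) :=
        Module.Finite.equiv (secH0 (k := k) (CohB1.tensorMod (ClSub.idealMod I) L)).symm
      let φ : Γ(CohB1.tensorMod (ClSub.idealMod I) L, ⊤) →ₗ[k] Γ(L, ⊤) :=
        { toFun := (idealIncl I L).app ⊤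
          map_add' := map_add _
          map_smul' := fun a s => TMul.app_smul _ _ _ }
      have := φ.finrank_range_le
      rw [LinearMap.range_eq_top.mpr fun t => mem_range_idealIncl hL ⟨{P}, hP⟩ t fun z hz => by
        rw [Set.mem_singleton_iff.mp hz]; exact hall t, finrank_top, finrank_sec, finrank_sec,
        h_eq_of_iso θ 0, h0L] at this
      have := pdeg_pos (k := k) hP
      omega
    · exact (hV x t₀).1 (htop ▸ Submodule.mem_top) (ht₀ _ hx)
  obtain ⟨t, ht⟩ := Submodule.exists_forall_notMem_of_forall_ne_top V hVne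
  have htgen : ∀ x ∈ T, x ∈ CohB1.genLocus L (homOf t) := fun x hx => by
    by_contra hn
    exact ht ⟨x, hx⟩ ((hV ⟨x, hx⟩ t).2 hn)
  set s := homOf t with hs_def
  have hs : s ≠ 0 := fun h0 => by
    have h2 := (hV ⟨P, hPT⟩ 0).1 (Submodule.zero_mem _)
    apply h2
    have ht0 : t = 0 := by
      have := congrArg (fun φ => TMul.val φ ⊤) h0
      simp only [hs_def, TMul.val_homOf, res_self] at this
      exact this
    show P ∈ CohB1.genLocus L (homOf (0 : Γ(L, ⊤)))
    rw [← ht0]
    exact htgen P hPT
  obtain ⟨x, hx⟩ : ∃ x, x ∉ CohB1.genLocus L s := by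
    by_contra! hall
    have hg : IsGen (TMul.val s ⊤) := by
      have h := TMul.isGen_genLocus s
      rwa [show CohB1.genLocus L s = ⊤ from top_le_iff.mp fun x _ => hall x] at h
    haveI : IsIso s := GrT.isIso_of_locally s
      (fun U a b hab => (hg U le_top).1 (by
        simpa only [TMul.app_eq_smul, TMul.res_val] using hab))
      fun U t x hx => ⟨U, le_rfl, hx, by
        obtain ⟨a, ha⟩ := (hg U le_top).2 t
        exact ⟨a, by rw [res_self, TMul.app_eq_smul, ← ha]; simp only [TMul.res_val]⟩⟩
    have := euler_eq_of_iso (k := k) (asIso s)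
    have hpos := pdeg_pos (k := k) hP
    omega
  obtain ⟨Q, hQx, hQc⟩ := (isClosed_closure (s := ({x} : Set X))).exists_closed_singleton ⟨x, subset_closure rfl⟩
  have hQn : Q ∉ CohB1.genLocus L s := fun hQ =>
    hx ((specializes_iff_mem_closure.mpr hQx).mem_open (CohB1.genLocus L s).2 hQ)
  have hQT : Q ∉ T := fun h => hQn (htgen Q h)
  have hQreg : IsRegularLocalRing (X.presheaf.stalk Q) := not_not.1 fun h => hQT (hT Q hQc h)
  refine ⟨Q, hQc, hQT, hQreg, ?_⟩
  -- the degree of a zero
  set J := Scheme.IdealSheafData.vanishingIdeal (⟨{Q}, hQc⟩ : Closeds X) with hJdef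
  have hJ := CurveRR.isInvertible_pointIdeal hdim.le hQc (CurveRR.genericPoint_ne_of_closed (k := k) hdim hQc) hQreg
  have hN := TMul.isInvertible_tensorMod hJ hL
  obtain ⟨w, hw⟩ := mem_range_idealIncl hL ⟨{Q}, hQc⟩ t fun z hz => by
    rw [Set.mem_singleton_iff.mp hz]; exact hQn
  have hw0 : homOf w ≠ 0 := fun h0' => hs (by
    have e : w = 0 := by
      have := congrArg (fun φ => TMul.val φ ⊤) h0'
      simp only [TMul.val_homOf, res_self] at this
      exact this
    rw [hs_def, ← hw, e, map_zero]
    exact TMul.hom_ext_val (by rw [TMul.val_homOf, map_zero]; rfl))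
  have he := euler_ideal_tensor (k := k) hL J (point_dim hQc)
  obtain ⟨hle, -⟩ := deg_le_and_isIso (k := k) hdim.le TMul.isInvertible_structureModule hN (homOf w) hw0
  rw [deg_structure, Curv2.deg, he] at hle
  have eJ : pdeg k hQc = h k (ClSub.quotMod J) 0 := rfl
  rw [eJ]
  rw [hχ] at hle
  push_cast at hle
  omega

/-- There are infinitely many regular closed points of least degree. -/
theorem infinite_minimal [Infinite k] (hdim : topologicalKrullDim X = 1)
    (h1 : Subsingleton (Coh.HH X (Coh.structureModule X) 1)) :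
    {P : X | ∃ hP : IsClosed ({P} : Set X), IsRegularLocalRing (X.presheaf.stalk P) ∧
      ∀ (Q : X) (hQ : IsClosed ({Q} : Set X)), IsRegularLocalRing (X.presheaf.stalk Q) →
        pdeg k hP ≤ pdeg k hQ}.Infinite := by
  classical
  haveI := CurveRR.isNoetherian_of_proper k X
  haveI : JacobsonSpace X := LocallyOfFiniteType.jacobsonSpace (X ↘ Spec (CommRingCat.of k))
  obtain ⟨hcl, hfin⟩ := CurveComplReg.finite_not_regular (X ↘ Spec (CommRingCat.of k)) hdim.le
  intro hS
  set S := {P : X | ∃ hP : IsClosed ({P} : Set X), IsRegularLocalRing (X.presheaf.stalk P) ∧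
    ∀ (Q : X) (hQ : IsClosed ({Q} : Set X)), IsRegularLocalRing (X.presheaf.stalk Q) →
      pdeg k hP ≤ pdeg k hQ} with hSdef
  have hex : ∃ n, ∃ (P : X) (hP : IsClosed ({P} : Set X)),
      IsRegularLocalRing (X.presheaf.stalk P) ∧ pdeg k hP = n := by
    have hne : ({x : X | ¬ IsRegularLocalRing (X.presheaf.stalk x)}ᶜ).Nonempty := ⟨genericPoint X, fun h => h (by
      haveI : IsField (X.presheaf.stalk (genericPoint X)) := CurveComplReg.isField_stalk fun y hy =>
        (hy.antisymm (genericPoint_specializes y)).eq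
      letI := this.toField
      infer_instance)⟩
    obtain ⟨P, hP, hPc⟩ := nonempty_inter_closedPoints hne hcl.isOpen_compl.isLocallyClosed
    exact ⟨_, P, hPc, not_not.1 hP, rfl⟩
  obtain ⟨P, hP, hreg, hPn⟩ := Nat.find_spec hex
  have hmin : ∀ (Q : X) (hQ : IsClosed ({Q} : Set X)), IsRegularLocalRing (X.presheaf.stalk Q) →
      pdeg k hP ≤ pdeg k hQ := fun Q hQ hQr => by
    rw [hPn]
    exact Nat.find_min' hex ⟨Q, hQ, hQr, rfl⟩
  obtain ⟨Q, hQ, hQT, hQreg, hle⟩ := exists_point_avoiding (k := k) hdim h1 hP hreg (hS.toFinset ∪ hfin.toFinset)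
    (Finset.mem_union_left _ (hS.mem_toFinset.2 ⟨hP, hreg, hmin⟩))
    (fun x _ hx => Finset.mem_union_right _ (hfin.mem_toFinset.2 hx))
  exact hQT (Finset.mem_union_left _ (hS.mem_toFinset.2
    ⟨hQ, hQreg, fun R hR hRr => hle.trans (hmin R hR hRr)⟩))

end Groth.Agent.GenusZeroPts
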