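import Groth.Agent.GenusZeroPts.Basic

/-!
# The Picard group of a curve of genus zero
-/

set_option autoImplicit false
set_option backward.isDefEq.respectTransparency false
set_option backward.isDefEq.respectTransparency.types false
set_option linter.style.haveILetI false
set_option linter.unusedSectionVars false

universe u

open CategoryTheory CategoryTheory.Limits AlgebraicGeometry TopologicalSpace Opposite
open Groth.Agent.QC (res resO res_res res_self res_smul)
open TMul (homOf IsGen tm)
open Groth.Agent.CurveRR Groth.Agent.CohFinite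

noncomputable section

namespace Groth.Agent.GenusZeroPts

variable {k : Type u} [Field k] {X : Scheme.{u}} [X.Over (Spec (CommRingCat.of k))]
  [IsIntegral X] [IsProper (X ↘ Spec (CommRingCat.of k))]

attribute [local instance] CurveRR.secMod

/-- A positive invertible module with a section has a section avoiding given closed points, so a zero outside
them of degree at most its degree. -/
theorem exists_zero_le_deg [Infinite k] (hdim : topologicalKrullDim X = 1)
    (h1 : Subsingleton (Coh.HH X (Coh.structureModule X) 1)) {L : X.Modules} (hL : PicF.IsInvertible L)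
    (h0 : h k L 0 ≠ 0) (hdeg : 0 < Curv2.deg k X L 1) (T : Finset X) (hTc : ∀ x ∈ T, IsClosed ({x} : Set X))
    (hT : ∀ x, IsClosed ({x} : Set X) → ¬ IsRegularLocalRing (X.presheaf.stalk x) → x ∈ T) :
    ∃ (Q : X) (hQ : IsClosed ({Q} : Set X)), Q ∉ T ∧ IsRegularLocalRing (X.presheaf.stalk Q) ∧
      (pdeg k hQ : ℤ) ≤ Curv2.deg k X L 1 := by
  classical
  haveI := CurveRR.isNoetherian_of_proper k X
  have hg : Curv2.genus k X = 0 := h_eq_zero h1
  have hv : ∀ {M : X.Modules}, Coh.IsCoh M → ∀ j : M ⟶ L, Mono j → h k M 0 ≠ 0 → h k M 1 = 0 :=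
    fun {M} hM j _ hne => by
    by_contra hc
    haveI := finite_proper k X _ hM 1
    have hnt : Nontrivial (Coh.HH X M 1) := Module.finrank_pos_iff.1 (Nat.pos_of_ne_zero hc)
    have := h0_le_genus (k := k) hdim.le hM hL j hnt
    omega
  have hL1 : h k L 1 = 0 := hv (isCoh_of_inv hL) (𝟙 L) inferInstance h0
  choose V hV using fun x : T => exists_vanishing (k := k) hL x.1
  have hVne : ∀ x : T, V x ≠ ⊤ := fun x htop => by
    have hx := hTc x.1 x.2
    have hall : ∀ t : Γ(L, ⊤), x.1 ∉ CohB1.genLocus L (homOf t) := fun t =>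
      (hV x t).1 (htop ▸ Submodule.mem_top)
    set I := Scheme.IdealSheafData.vanishingIdeal (⟨{x.1}, hx⟩ : Closeds X) with hIdef
    have hM := isCoh_tensor (isCoh_idealMod I).1 hL
    haveI := mono_idealIncl hL I
    haveI := finite_proper k X _ hM 0
    haveI : Module.Finite k Γ(CohB1.tensorMod (ClSub.idealMod I) L, ⊤) :=
      Module.Finite.equiv (secH0 (k := k) (CohB1.tensorMod (ClSub.idealMod I) L)).symm
    let φ : Γ(CohB1.tensorMod (ClSub.idealMod I) L, ⊤) →ₗ[k] Γ(L, ⊤) :=
      { toFun := (idealIncl I L).app ⊤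
        map_add' := map_add _
        map_smul' := fun a s => TMul.app_smul _ _ _ }
    have hle := φ.finrank_range_le
    rw [LinearMap.range_eq_top.mpr fun t => mem_range_idealIncl hL ⟨{x.1}, hx⟩ t fun z hz => by
      rw [Set.mem_singleton_iff.mp hz]; exact hall t, finrank_top, finrank_sec, finrank_sec] at hle
    have hM1 := hv hM (idealIncl I L) inferInstance (by omega)
    have he := euler_ideal_tensor (k := k) hL I (point_dim hx)
    rw [euler_eq hdim.le, euler_eq hdim.le, hL1, hM1] at he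
    have hQ := h0_quotMod_pos (k := k) I (by simp [hIdef])
    push_cast at he
    omega
  obtain ⟨t, ht⟩ : ∃ t : Γ(L, ⊤), (∀ x : T, t ∉ V x) ∧ t ≠ 0 := by
    by_cases hTe : Nonempty T
    · obtain ⟨t, ht⟩ := Submodule.exists_forall_notMem_of_forall_ne_top V hVne
      obtain ⟨x⟩ := hTe
      exact ⟨t, ht, fun h => ht x (h ▸ Submodule.zero_mem _)⟩
    · by_contra! hall
      haveI : Subsingleton Γ(L, ⊤) := ⟨fun a b =>
        (hall a fun x => absurd ⟨x⟩ hTe).trans (hall b fun x => absurd ⟨x⟩ hTe).symm⟩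
      exact h0 (by rw [← finrank_sec]; exact Module.finrank_zero_of_subsingleton)
  have htgen : ∀ x ∈ T, x ∈ CohB1.genLocus L (homOf t) := fun x hx => by
    by_contra hn
    exact ht.1 ⟨x, hx⟩ ((hV ⟨x, hx⟩ t).2 hn)
  set s := homOf t with hs_def
  have hval : ∀ {M : X.Modules} (a : Γ(M, ⊤)), homOf a = 0 → a = 0 := fun {M} a ha => by
    have := congrArg (fun φ => TMul.val φ ⊤) ha
    simp only [TMul.val_homOf, res_self] at this
    exact this
  have hs : s ≠ 0 := fun h => ht.2 (hval t h)
  obtain ⟨x, hx⟩ : ∃ x, x ∉ CohB1.genLocus L s := by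
    by_contra! hall
    have hgn : IsGen (TMul.val s ⊤) := by
      have h := TMul.isGen_genLocus s
      rwa [show CohB1.genLocus L s = ⊤ from top_le_iff.mp fun x _ => hall x] at h
    haveI : IsIso s := GrT.isIso_of_locally s
      (fun U a b hab => (hgn U le_top).1 (by
        simpa only [TMul.app_eq_smul, TMul.res_val] using hab))
      fun U t x hx => ⟨U, le_rfl, hx, by
        obtain ⟨a, ha⟩ := (hgn U le_top).2 t
        exact ⟨a, by rw [res_self, TMul.app_eq_smul, ← ha]; simp only [TMul.res_val]⟩⟩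
    have he := euler_eq_of_iso (k := k) (asIso s)
    rw [Curv2.deg, ← he] at hdeg
    simp at hdeg
  obtain ⟨Q, hQx, hQc⟩ := (isClosed_closure (s := ({x} : Set X))).exists_closed_singleton ⟨x, subset_closure rfl⟩
  have hQn : Q ∉ CohB1.genLocus L s := fun hQ =>
    hx ((specializes_iff_mem_closure.mpr hQx).mem_open (CohB1.genLocus L s).2 hQ)
  have hQT : Q ∉ T := fun h => hQn (htgen Q h)
  have hQreg : IsRegularLocalRing (X.presheaf.stalk Q) := not_not.1 fun h => hQT (hT Q hQc h)
  refine ⟨Q, hQc, hQT, hQreg, ?_⟩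
  set J := Scheme.IdealSheafData.vanishingIdeal (⟨{Q}, hQc⟩ : Closeds X) with hJdef
  have hJ := CurveRR.isInvertible_pointIdeal hdim.le hQc (CurveRR.genericPoint_ne_of_closed (k := k) hdim hQc) hQreg
  have hN := TMul.isInvertible_tensorMod hJ hL
  obtain ⟨w, hw⟩ := mem_range_idealIncl hL ⟨{Q}, hQc⟩ t fun z hz => by
    rw [Set.mem_singleton_iff.mp hz]; exact hQn
  have hw0 : homOf w ≠ 0 := fun h0' => ht.2 (by rw [← hw, hval w h0', map_zero])
  have he := euler_ideal_tensor (k := k) hL J (point_dim hQc)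
  obtain ⟨hle, -⟩ := deg_le_and_isIso (k := k) hdim.le TMul.isInvertible_structureModule hN (homOf w) hw0
  rw [deg_structure, Curv2.deg, he] at hle
  rw [Curv2.deg]
  have eJ : pdeg k hQc = h k (ClSub.quotMod J) 0 := rfl
  omega

/-- The degree of a class of invertible modules. -/
def degCls (k : Type u) [Field k] {X : Scheme.{u}} [X.Over (Spec (CommRingCat.of k))] (c : PicLoc.PicSet X) : ℤ :=
  Curv2.deg k X (PicGrp.exists_eq_cls c).choose 1

theorem degCls_cls {L : X.Modules} (hL : PicF.IsInvertible L) :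
    degCls k (PicGrp.cls L hL) = Curv2.deg k X L 1 := by
  obtain ⟨hM, he⟩ := (PicGrp.exists_eq_cls (PicGrp.cls L hL)).choose_spec
  obtain ⟨e⟩ := (PicGrp.cls_eq_cls_iff hL hM).1 he
  rw [degCls, Curv2.deg, Curv2.deg, euler_eq_of_iso e.symm]

/-- The degree as a homomorphism. -/
def degHom (k : Type u) [Field k] {X : Scheme.{u}} [X.Over (Spec (CommRingCat.of k))] [IsIntegral X]
    [IsProper (X ↘ Spec (CommRingCat.of k))] [PicGrp.Law X] (hdim : topologicalKrullDim X ≤ 1) :
    PicLoc.PicSet X →* Multiplicative ℤ :=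
  MonoidHom.mk' (fun c => Multiplicative.ofAdd (degCls k c)) fun a b => by
    haveI := CurveRR.isNoetherian_of_proper k X
    obtain ⟨A, hA, rfl⟩ := PicGrp.exists_eq_cls a
    obtain ⟨B, hB, rfl⟩ := PicGrp.exists_eq_cls b
    have hAB : PicGrp.cls A hA * PicGrp.cls B hB = PicGrp.cls _ (TMul.isInvertible_tensorMod hA hB) :=
      Subtype.ext (PicGrp.cls_mul_cls_val hA hB)
    rw [← ofAdd_add, hAB, degCls_cls, degCls_cls, degCls_cls]
    have h := CurveRR.Multi.deg_tensor k hdim 1 1 A B (CurveRR.isFinLocFreeOfRank_one hA)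
      (CurveRR.isFinLocFreeOfRank_one hB)
    rw [Nat.mul_one, Nat.cast_one, one_mul, one_mul] at h
    exact congrArg _ (by rw [h]; ring)

/-- The class of a regular point of least degree generates. -/
theorem mem_zpowers [Infinite k] [PicGrp.Law X] (hdim : topologicalKrullDim X = 1)
    (h1 : Subsingleton (Coh.HH X (Coh.structureModule X) 1)) {P : X} (hP : IsClosed ({P} : Set X))
    (hmin : ∀ (Q : X) (hQ : IsClosed ({Q} : Set X)), IsRegularLocalRing (X.presheaf.stalk Q) →
      pdeg k hP ≤ pdeg k hQ)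
    (hI : PicF.IsInvertible (ClSub.idealMod (Scheme.IdealSheafData.vanishingIdeal ⟨{P}, hP⟩)))
    (c : PicLoc.PicSet X) :
    c ∈ Subgroup.zpowers (PicGrp.cls (ClSub.idealMod (Scheme.IdealSheafData.vanishingIdeal ⟨{P}, hP⟩)) hI) := by
  haveI := CurveRR.isNoetherian_of_proper k X
  set γ := PicGrp.cls (ClSub.idealMod (Scheme.IdealSheafData.vanishingIdeal ⟨{P}, hP⟩)) hI
  have hγ : degCls k γ = - (pdeg k hP : ℤ) := by
    have he := euler_ideal_tensor (k := k) (TMul.isInvertible_structureModule (X := X))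
      (Scheme.IdealSheafData.vanishingIdeal ⟨{P}, hP⟩) (point_dim hP)
    rw [degCls_cls, Curv2.deg, euler_eq_of_iso ((TMul.leftUnitIso _).symm ≪≫
      TMul.commIso (Coh.structureModule X) (ClSub.idealMod (Scheme.IdealSheafData.vanishingIdeal ⟨{P}, hP⟩))), he,
      pdeg]
    ring
  have hd := pdeg_pos (k := k) hP
  set n := degCls k c
  obtain ⟨M, hM, hMc⟩ := PicGrp.exists_eq_cls (c * γ ^ (n / (pdeg k hP : ℤ)))
  have hr : Curv2.deg k X M 1 = n % (pdeg k hP : ℤ) := by
    have h := congrArg Multiplicative.toAdd (map_mul (degHom k hdim.le) c (γ ^ (n / (pdeg k hP : ℤ))))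
    rw [map_zpow] at h
    change degCls k (c * γ ^ (n / (pdeg k hP : ℤ))) = n + (n / (pdeg k hP : ℤ)) • degCls k γ at h
    rw [hMc, degCls_cls, hγ, smul_eq_mul] at h
    rw [h, Int.emod_def]
    ring
  have hr0 : 0 ≤ Curv2.deg k X M 1 := hr ▸ Int.emod_nonneg _ (by omega)
  have hrd : Curv2.deg k X M 1 < (pdeg k hP : ℤ) := hr ▸ Int.emod_lt_of_pos _ (by omega)
  have h0M : h k M 0 ≠ 0 := by
    have hO : 0 < h k (Coh.structureModule X) 0 := by
      haveI := finite_proper k X _ (isCoh_of_inv (TMul.isInvertible_structureModule (X := X))) 0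
      haveI : Nontrivial Γ(Coh.structureModule X, ⊤) := inferInstanceAs (Nontrivial Γ(X, ⊤))
      haveI : Nontrivial (Coh.HH X (Coh.structureModule X) 0) := (secH0 (k := k) _).toEquiv.symm.nontrivial
      exact Module.finrank_pos
    have := hr0
    rw [Curv2.deg, euler_eq hdim.le, euler_eq hdim.le, show h k (Coh.structureModule X) 1 = 0 from h_eq_zero h1]
      at this
    push_cast at this
    omega
  rcases hr0.lt_or_eq with hpos | hzero
  · obtain ⟨-, hfin⟩ := CurveComplReg.finite_not_regular (X ↘ Spec (CommRingCat.of k)) hdim.le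
    obtain ⟨Q, hQ, -, hQreg, hQle⟩ := exists_zero_le_deg hdim h1 hM h0M hpos
      (hfin.subset (Set.inter_subset_left (t := {x | IsClosed ({x} : Set X)}))).toFinset
      (fun x hx => ((Set.Finite.mem_toFinset _).1 hx).2)
      (fun x hxc hx => (Set.Finite.mem_toFinset _).2 ⟨hx, hxc⟩)
    have := hmin Q hQ hQreg
    omega
  · obtain ⟨s, hs⟩ := exists_section h0M
    have h1' := (PicGrp.cls_eq_one_iff hM).2 (nonempty_iso_of_section (k := k) hdim.le hM s hs hzero.ge)
    refine ⟨-(n / (pdeg k hP : ℤ)), ?_⟩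
    show γ ^ (-(n / (pdeg k hP : ℤ))) = c
    rw [zpow_neg, inv_eq_iff_mul_eq_one, mul_comm, hMc, h1']

end Groth.Agent.GenusZeroPts
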